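import Cfsg.Agent.H706.PB.Defs
import Cfsg.Agent.H993.OC.Row
import Cfsg.Agent.H601.OddDeg.Block
import Cfsg.Agent.H493.OddDeg.Psp
import Cfsg.Agent.S2299
import Cfsg.Agent.CharDeep.IrrEquiv
import Cfsg.Agent.TwoFusion.SLTwoFacts
import Cfsg.Agent.TwoUniq.PSLRank
import Cfsg.Agent.Blocks.Deflate

/-!
# S4884, own characteristic: `PSL₂(Q)`, `Q` odd (helper774)

* `factor` : an irreducible character of odd degree of a perfect group is inflated from the quotient by a central
  subgroup of exponent 2;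
* `exists_odd` : `PSL₂(Q)`, `Q ≥ 5` odd, has an irreducible character of odd degree `(Q ± 1) / 2`;
* `rowB_psl2`.
-/

set_option autoImplicit false

namespace Cfsg.Agent.H774.OQ

open Cfsg Subgroup Cfsg.Agent.H706.PB Cfsg.Agent.CharDeep.IrrEquiv

universe u

/-- an irreducible character of odd degree of a perfect group is trivial on a central subgroup of exponent two -/
theorem factor {G : Type u} [Group G] [Finite G] (hG : commutator G = ⊤) {Z : Subgroup G} [Z.Normal]
    (hZ : Z ≤ center G) (h2 : ∀ z ∈ Z, z * z = 1) {χ : G → ℂ} (hχ : IsIrrCharacter G χ) (hd : Odd (charDegree χ)) :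
    ∃ χ' : IrrCharacter (G ⧸ Z), χ = (χ' : G ⧸ Z → ℂ) ∘ QuotientGroup.mk := by
  classical
  have := Fintype.ofFinite Z
  refine Cfsg.Agent.Blocks.Deflate.exists_deflation Z χ hχ ?_
  have h1n := Cfsg.Agent.Blocks.Basic.irr_one_eq_charDegree hχ
  have hval : ∀ z ∈ Z, χ z = χ 1 := by
    intro z hz
    obtain ⟨n, ρ, hρ, rfl⟩ := hχ
    have hn : charDegree ρ.character = n := by
      have h2 : ρ.character 1 = (n : ℂ) := by
        rw [Representation.char_one, Module.finrank_fin_fun]
      rw [h2] at h1n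
      exact (Nat.cast_injective h1n).symm
    obtain ⟨c, hc⟩ := exists_smul_of_commute ρ hρ (ρ z) (by
      intro g
      rw [← map_mul, ← map_mul, mem_center_iff.1 (hZ hz) g])
    have hdet : detHom ρ z = 1 := by
      have h4 : commutator G ≤ (detHom ρ).ker := Abelianization.commutator_subset_ker (detHom ρ)
      rw [hG] at h4
      exact h4 (mem_top z)
    have h3 : c ^ n = 1 := by
      have h5 : ((detHom ρ z : ℂˣ) : ℂ) = 1 := by rw [hdet]; rfl
      rw [detHom_apply, hc, LinearMap.det_smul, map_one, mul_one, Module.finrank_fin_fun] at h5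
      exact h5
    rw [hn] at hd
    have hn0 : (n : ℂ) ≠ 0 := by
      have : n ≠ 0 := by
        rintro rfl
        exact absurd hd (by decide)
      exact_mod_cast this
    have h4 : c ^ 2 = 1 := by
      have h5 : ρ.character (z * z) = n := by
        rw [h2 z hz, Representation.char_one, Module.finrank_fin_fun]
      have h6 : ρ.character (z * z) = c ^ 2 * n := by
        rw [Representation.character, map_mul, hc, smul_mul_smul_comm, mul_one, map_smul, LinearMap.trace_one,
          Module.finrank_fin_fun, smul_eq_mul, pow_two]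
      rw [h5] at h6
      exact (mul_eq_right₀ hn0).1 h6.symm
    have h5 : c = 1 := by
      obtain ⟨k, rfl⟩ := hd
      rw [pow_succ, pow_mul, h4, one_pow, one_mul] at h3
      exact h3
    rw [Representation.char_one, Representation.character, hc, h5, one_smul, LinearMap.trace_one]
  rw [Finset.sum_congr rfl fun (z : Z) _ => hval z z.2, Finset.sum_const, nsmul_eq_mul, h1n]
  have h5 : charDegree χ ≠ 0 := by
    intro h0
    rw [h0] at hd
    exact absurd hd (by decide)
  have h6 : Fintype.card Z ≠ 0 := Fintype.card_ne_zero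
  rw [Finset.card_univ]
  exact_mod_cast mul_ne_zero h6 h5

section

variable {F : Type} [Field F] [Fintype F]

/-- the irreducible character of odd degree `(Q ± 1) / 2` -/
theorem exists_odd (hodd : Odd (Fintype.card F)) (h5 : 5 ≤ Fintype.card F) :
    ∃ χ : IrrCharacter (Matrix.ProjectiveSpecialLinearGroup (Fin 2) F),
      Odd (charDegree (χ : Matrix.ProjectiveSpecialLinearGroup (Fin 2) F → ℂ)) ∧
      (charDegree (χ : Matrix.ProjectiveSpecialLinearGroup (Fin 2) F → ℂ) = (Fintype.card F + 1) / 2 ∨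
        charDegree (χ : Matrix.ProjectiveSpecialLinearGroup (Fin 2) F → ℂ) = (Fintype.card F - 1) / 2) := by
  classical
  obtain ⟨-, h⟩ := S2299.result (F := F) hodd
  obtain ⟨-, -, -, -, hp, hm⟩ := h h5
  have hSL : commutator (Matrix.SpecialLinearGroup (Fin 2) F) = ⊤ :=
    Cfsg.Agent.TwoFusion.SLTwoFacts.commutator_eq_top (F := F) (by omega)
  have key : ∃ χ : IrrCharacter (Matrix.SpecialLinearGroup (Fin 2) F),
      Odd (charDegree (χ : Matrix.SpecialLinearGroup (Fin 2) F → ℂ)) ∧
      (charDegree (χ : Matrix.SpecialLinearGroup (Fin 2) F → ℂ) = (Fintype.card F + 1) / 2 ∨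
        charDegree (χ : Matrix.SpecialLinearGroup (Fin 2) F → ℂ) = (Fintype.card F - 1) / 2) := by
    have aux : ∀ {a : ℕ}, Nat.card {χ : IrrCharacter (Matrix.SpecialLinearGroup (Fin 2) F) //
        (χ : Matrix.SpecialLinearGroup (Fin 2) F → ℂ) 1 = ((a : ℕ) : ℂ)} = 2 →
        ∃ χ : IrrCharacter (Matrix.SpecialLinearGroup (Fin 2) F),
          charDegree (χ : Matrix.SpecialLinearGroup (Fin 2) F → ℂ) = a := by
      intro a ha
      have hne : Nonempty {χ : IrrCharacter (Matrix.SpecialLinearGroup (Fin 2) F) //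
          (χ : Matrix.SpecialLinearGroup (Fin 2) F → ℂ) 1 = ((a : ℕ) : ℂ)} := by
        by_contra hcon
        rw [not_nonempty_iff] at hcon
        rw [Nat.card_of_isEmpty] at ha
        omega
      obtain ⟨χ, hχ⟩ := hne
      exact ⟨χ, Cfsg.Agent.Blocks.Basic.charDegree_of_eq hχ⟩
    obtain ⟨k, hk⟩ := hodd
    rcases Nat.even_or_odd k with he | ho
    · obtain ⟨χ, hχ⟩ := aux hp
      refine ⟨χ, ?_, Or.inl hχ⟩
      rw [hχ, hk]
      obtain ⟨j, hj⟩ := he
      exact ⟨j, by omega⟩
    · obtain ⟨χ, hχ⟩ := aux hm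
      refine ⟨χ, ?_, Or.inr hχ⟩
      rw [hχ, hk]
      obtain ⟨j, hj⟩ := ho
      exact ⟨j, by omega⟩
  obtain ⟨χ, ho, hd⟩ := key
  obtain ⟨χ', hχ'⟩ := factor hSL (Z := center (Matrix.SpecialLinearGroup (Fin 2) F)) le_rfl (fun z hz => by
    rcases Cfsg.Agent.TwoUniq.PSLRank.center_cases hz with h1 | h1
    · rw [h1, mul_one]
    · rw [h1]
      simp) χ.2 ho
  have he : charDegree (χ' : Matrix.SpecialLinearGroup (Fin 2) F ⧸ center (Matrix.SpecialLinearGroup (Fin 2) F) → ℂ) =
      charDegree (χ : Matrix.SpecialLinearGroup (Fin 2) F → ℂ) := by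
    refine Cfsg.Agent.Blocks.Basic.charDegree_of_eq ?_
    rw [← Cfsg.Agent.Blocks.Basic.irr_one_eq_charDegree χ.2, hχ', Function.comp_apply]
    rfl
  exact ⟨χ', by rw [he]; exact ho, by rw [he]; exact hd⟩

end

/-- **`RowB` for `PSL₂(Q)` in odd own characteristic.** -/
theorem rowB_psl2 {q : ℕ} [hq : Fact q.Prime] (hq2 : q ≠ 2) {F : Type} [Field F] [Fintype F] [CharP F q]
    (h4 : 4 ≤ Fintype.card F) {X : Type} [Group X] [Finite X] [IsSimpleGroup X] (hna : ¬ IsMulCommutative X)
    (e : X ≃* Matrix.ProjectiveSpecialLinearGroup (Fin 2) F) : RowB q X := by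
  obtain ⟨k, -, hk⟩ := FiniteField.card F q
  have hqodd : Odd q := hq.out.odd_of_ne_two hq2
  have hodd : Odd (Fintype.card F) := by rw [hk]; exact hqodd.pow
  have hqd : q ∣ Fintype.card F := by rw [hk]; exact dvd_pow_self q k.ne_zero
  have h5 : 5 ≤ Fintype.card F := by
    obtain ⟨j, hj⟩ := hodd
    omega
  obtain ⟨χ, ho, hd⟩ := exists_odd hodd h5
  have hL : IsLieTypeChar q X := Or.inl ⟨F, inferInstance, inferInstance, inferInstance, 2, le_rfl, fun _ => h4, ⟨e⟩⟩
  let θ : IrrCharacter X := ⟨_, Cfsg.Agent.Characters.Core.isIrr_comp (e : X →* _) e.surjective χ.2⟩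
  have hdeg : charDegree (θ : X → ℂ) = charDegree (χ : Matrix.ProjectiveSpecialLinearGroup (Fin 2) F → ℂ) :=
    charDegree_comp e _
  have hq1 : ¬ q ∣ charDegree (θ : X → ℂ) := by
    rw [hdeg]
    intro h
    have h1 : q ∣ 1 := by
      have h3 := hq.out.two_le
      rcases hd with hd | hd
      · rw [hd] at h
        have h6 : q ∣ 2 * ((Fintype.card F + 1) / 2) := Dvd.dvd.mul_left h 2
        have h7 : 2 * ((Fintype.card F + 1) / 2) = Fintype.card F + 1 := by
          obtain ⟨j, hj⟩ := hodd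
          omega
        rw [h7] at h6
        exact (Nat.dvd_add_right hqd).1 h6
      · rw [hd] at h
        have h6 : q ∣ 2 * ((Fintype.card F - 1) / 2) := Dvd.dvd.mul_left h 2
        have h7 : 2 * ((Fintype.card F - 1) / 2) = Fintype.card F - 1 := by
          obtain ⟨j, hj⟩ := hodd
          omega
        rw [h7] at h6
        have h8 : Fintype.card F - (Fintype.card F - 1) = 1 := by omega
        rw [← h8]
        exact Nat.dvd_sub hqd h6
    exact hq.out.one_lt.ne' (Nat.dvd_one.1 h1)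
  have h2 : ¬ 2 ∣ charDegree (θ : X → ℂ) := by
    rw [hdeg]
    exact fun h => (Nat.not_even_iff_odd.2 ho) (even_iff_two_dvd.2 h)
  have hF2 : (2 : F) ≠ 0 := by
    intro h0
    have h1 : ((2 : ℕ) : F) = 0 := by exact_mod_cast h0
    rw [CharP.cast_eq_zero_iff F q 2] at h1
    exact hq2 ((Nat.prime_dvd_prime_iff_eq hq.out Nat.prime_two).1 h1)
  have hT : Cfsg.Agent.H601.OddDeg.TwoC X := (H493.OddDeg.twoC_psl2 hF2).congr e.symm
  intro M2 Mq hM2 hMq
  refine ⟨θ, hT.mem_principalBlock hM2 θ h2, H993.OC.mem_b0 hq2 hna hL hMq θ hq1, ?_, h2, hq1⟩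
  intro h1
  have h3 : charDegree (θ : X → ℂ) = 1 := by
    rw [h1]
    exact Cfsg.Agent.Blocks.Basic.charDegree_of_eq (by norm_num)
  rw [hdeg] at h3
  rcases hd with hd | hd
  · omega
  · have h8 : Fintype.card F = 5 ∨ 6 ≤ Fintype.card F := by omega
    omega

end Cfsg.Agent.H774.OQ
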