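import Cfsg.Agent.H706.PB.Defs
import Cfsg.Agent.H993.OC.Row
import Cfsg.Agent.H191.EB515.OddRee
import Cfsg.Agent.Blocks.FullDefect
import Cfsg.Agent.S0913

/-!
# S4884, own characteristic: the small Ree groups (helper774)

All members of the principal 2-block have odd degree (helper191); `∑ χ(1) χ(t) = 0` over the principal 2-block, `t` an
involution, gives a nontrivial member of degree prime to 3.
-/

set_option autoImplicit false

namespace Cfsg.Agent.H774.OQ

open Cfsg Subgroup Cfsg.Agent.H706.PB Cfsg.Agent.Blocks Cfsg.Agent.Blocks.Local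
open scoped ComplexConjugate

universe u

/-- two primes: the principal `p`-block has a nontrivial member of degree prime to `l` -/
theorem exists_prime_to {G : Type u} [Group G] [Finite G] {p l : ℕ} (hp : p.Prime) (hl : l.Prime) {M : Ideal AlgInt}
    (hM : IsPModular p M) {y : G} (hy : p ∣ orderOf y) :
    ∃ χ : IrrCharacter G, χ ∈ principalBlock M G ∧ ¬ l ∣ charDegree (χ : G → ℂ) ∧ (χ : G → ℂ) ≠ fun _ => 1 := by
  classical
  have hpF : Fact p.Prime := ⟨hp⟩
  have hlF : Fact l.Prime := ⟨hl⟩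
  obtain ⟨M2, hM2⟩ := ExistsModular.exists_isPModular hl
  have hMp := Local.isPrime_of_isPModular hM
  have hM2p := Local.isPrime_of_isPModular hM2
  have hfin : Finite (IrrCharacter G) := S0909.finite_irr
  have := Fintype.ofFinite (IrrCharacter G)
  by_contra hcon
  push Not at hcon
  have h1 := Orthogonality.weak_block_orthogonality hM (principalBlock M G) (fun g =>
    Osima.memLocalRing_blockCoeff hM PrincipalSection.isPBlock_principalBlock g)
    (x := (1 : G)) (y := y) (by rw [orderOf_one]; exact hp.one_lt.not_ge ∘ Nat.le_of_dvd one_pos) hy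
  rw [Orthogonality.finsum_mem_eq_sum_filter] at h1
  let one : IrrCharacter G := ⟨_, Basic.isIrrCharacter_one⟩
  have hone : one ∈ Finset.univ.filter (fun χ : IrrCharacter G => χ ∈ principalBlock M G) := by
    rw [Finset.mem_filter]
    refine ⟨Finset.mem_univ _, fun g => ?_⟩
    have h0 : MemLocalIdeal M (0 : ℂ) := memLocalIdeal_zero
    simpa [one] using h0
  rw [← Finset.add_sum_erase _ _ hone] at h1
  have h2 : MemLocalIdeal M2 (∑ χ ∈ (Finset.univ.filter (fun χ : IrrCharacter G => χ ∈ principalBlock M G)).erase one,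
      (χ : G → ℂ) 1 * conj ((χ : G → ℂ) y)) := by
    refine memLocalIdeal_sum fun χ hχ => ?_
    obtain ⟨hne, hmem⟩ := Finset.mem_erase.1 hχ
    have hmem' := (Finset.mem_filter.1 hmem).2
    by_cases hd2 : l ∣ charDegree (χ : G → ℂ)
    · rw [Basic.irr_one_eq_charDegree χ.2]
      refine memLocalIdeal_mul_right ((memLocalIdeal_natCast_iff hM2 _).2 hd2) ?_
      have h3 : conj ((χ : G → ℂ) y) = (χ : G → ℂ) y⁻¹ := by
        rw [Characters.Core.isCharacter_apply_inv (Characters.Core.isIrr_isCharacter χ.2)]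
      rw [h3]
      exact FullDefect.memLocalRing_irr χ y⁻¹
    · exact absurd (Subtype.ext (hcon χ hmem' hd2)) hne
  have h3 : ((one : IrrCharacter G) : G → ℂ) 1 * conj (((one : IrrCharacter G) : G → ℂ) y) = 1 := by
    show (1 : ℂ) * conj (1 : ℂ) = 1
    simp
  rw [h3] at h1
  have h4 : MemLocalIdeal M2 (1 : ℂ) := by
    have h5 := memLocalIdeal_neg h2
    rw [← eq_neg_iff_add_eq_zero.2 h1] at h5
    exact h5
  have h6 := (memLocalIdeal_natCast_iff hM2 1).1 (by simpa using h4)
  exact hl.one_lt.ne' (Nat.dvd_one.1 h6)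

/-- **`RowB` for the small Ree groups.** -/
theorem rowB_ree {X : Type} [Group X] [Finite X] [IsSimpleGroup X] (hna : ¬ IsMulCommutative X)
    (h : Lie.IsoRee X) : RowB 3 X := by
  have h2F : Fact (Nat.Prime 2) := ⟨Nat.prime_two⟩
  have h3F : Fact (Nat.Prime 3) := ⟨Nat.prime_three⟩
  have hL : IsLieTypeChar 3 X := Or.inr (Or.inr (Or.inr (Or.inr (Or.inr (Or.inr (Or.inr (Or.inr (Or.inr (Or.inr
    ⟨rfl, h⟩)))))))))
  intro M2 Mq hM2 hMq
  obtain ⟨K, _, _, t, L, V, Y, m, ε, hg⟩ := H191.EB515.exists_good h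
  obtain ⟨χ, h1, h2, h3⟩ := exists_prime_to Nat.prime_two Nat.prime_three hM2 (y := t) (by rw [hg.ord_t])
  have h4 := H191.EB515.odd_of_isoRee h hM2 χ h1
  exact ⟨χ, h1, H993.OC.mem_b0 (by norm_num) hna hL hMq χ h2, h3,
    fun h5 => (Nat.not_even_iff_odd.2 h4) (even_iff_two_dvd.2 h5), h2⟩

end Cfsg.Agent.H774.OQ
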